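import Cfsg.Agent.H21.PG.Ext

/-!
# CaseS and CaseH of block G (helper21, S4884)
-/

set_option autoImplicit false
set_option linter.unusedSectionVars false

namespace Cfsg.Agent.H21.PG

open Cfsg.Agent.TitsThree.Siegel Module Submodule Cfsg.Agent.H439.CC

universe u v

section Fin

variable {F : Type u} [Field F] [Finite F] {V : Type v} [AddCommGroup V] [Module F V] [FiniteDimensional F V]
  {H : HForm F V} {m q : ℕ} [hqp : Fact q.Prime]

theorem Rg_pos {x : V ≃ₗ[F] V} (hne : x ≠ 1) : 0 < finrank F (Rg x) := by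
  rw [Nat.pos_iff_ne_zero]
  intro h
  have h1 : Rg x = ⊥ := Submodule.finrank_eq_zero.1 h
  apply hne
  ext v
  have h2 := sub_mem_Rg x v
  rw [h1, mem_bot, sub_eq_zero] at h2
  exact h2

theorem dvd_Rg {x : V ≃ₗ[F] V} (hx : x ^ q = 1) (hq : (q : F) ≠ 0) :
    orderOf ((Nat.card F : ℕ) : ZMod q) ∣ finrank F (Rg x) :=
  dvd_finrank hx Sb.Rg fun _ hv hv' => disj hx hq hv (mem_Cg.2 hv')

theorem ord_pos (hq : (q : F) ≠ 0) : 0 < orderOf ((Nat.card F : ℕ) : ZMod q) := by
  classical
  have hF : Fintype F := Fintype.ofFinite F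
  have h1 : ((Nat.card F : ℕ) : ZMod q) ≠ 0 := by
    intro h
    rw [ZMod.natCast_eq_zero_iff, Nat.card_eq_fintype_card] at h
    obtain ⟨p, hp⟩ := CharP.exists F
    obtain ⟨n, hpp, hc⟩ := FiniteField.card F p
    rw [hc] at h
    have h2 : q = p := (Nat.prime_dvd_prime_iff_eq hqp.out hpp).1 (hqp.out.dvd_of_dvd_pow h)
    apply hq
    rw [h2]
    exact CharP.cast_eq_zero F p
  have h2 := ZMod.pow_card_sub_one_eq_one h1
  exact orderOf_pos_iff.2 (isOfFinOrder_iff_pow_eq_one.2 ⟨q - 1, by have := hqp.out.two_le; omega, h2⟩)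

/-- a fixed point free element of order `q` of `GL_d(F)` -/
theorem exists_A (hq : (q : F) ≠ 0) {d : ℕ} (hd : d = orderOf ((Nat.card F : ℕ) : ZMod q)) :
    ∃ A B : Matrix (Fin d) (Fin d) F, A * B = 1 ∧ B * A = 1 ∧ A ^ q = 1 ∧ ∀ a, A.mulVec a = a → a = 0 := by
  classical
  have hF : Fintype F := Fintype.ofFinite F
  have hd0 : 0 < d := by rw [hd]; exact ord_pos hq
  have h1 : q ∣ Nat.card (Matrix.GeneralLinearGroup (Fin d) F) := by
    rw [Matrix.card_GL_field]
    refine (Dvd.dvd.trans ?_ (Finset.dvd_prod_of_mem _ (Finset.mem_univ (⟨0, hd0⟩ : Fin d))))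
    change q ∣ Fintype.card F ^ d - Fintype.card F ^ 0
    rw [pow_zero, ← ZMod.natCast_eq_zero_iff, Nat.cast_sub (Nat.one_le_pow _ _ Fintype.card_pos), Nat.cast_pow,
      ← Nat.card_eq_fintype_card, hd, pow_orderOf_eq_one, Nat.cast_one, sub_self]
  have hfin : Finite (Matrix.GeneralLinearGroup (Fin d) F) := inferInstance
  obtain ⟨g, hg⟩ := exists_prime_orderOf_dvd_card' q h1
  have hgq : g ^ q = 1 := by rw [← hg]; exact pow_orderOf_eq_one g
  have hg1 : g ≠ 1 := by
    rintro rfl
    rw [orderOf_one] at hg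
    exact hqp.out.one_lt.ne hg
  let x : (Fin d → F) ≃ₗ[F] (Fin d → F) := LinearEquiv.ofLinearMap (Matrix.toLin' g.1) (Matrix.toLin' (g⁻¹).1)
    (by rw [← Matrix.toLin'_mul, ← Units.val_mul, mul_inv_cancel, Units.val_one, Matrix.toLin'_one])
    (by rw [← Matrix.toLin'_mul, ← Units.val_mul, inv_mul_cancel, Units.val_one, Matrix.toLin'_one])
  have hxa : ∀ a, x a = g.1.mulVec a := fun a => rfl
  have hxn : ∀ (n : ℕ) a, (x ^ n) a = ((g ^ n).1).mulVec a := by
    intro n
    induction n with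
    | zero => intro a; rw [pow_zero, pow_zero, Units.val_one, Matrix.one_mulVec]; rfl
    | succ n ih =>
      intro a
      rw [pow_succ, LinearEquiv.mul_apply, ih, hxa, Matrix.mulVec_mulVec, pow_succ, Units.val_mul]
  have hxq : x ^ q = 1 := by
    refine LinearEquiv.ext fun a => ?_
    rw [hxn, hgq, Units.val_one, Matrix.one_mulVec]
    rfl
  have hx1 : x ≠ 1 := by
    intro h
    apply hg1
    apply Units.ext
    apply Matrix.toLin'.injective
    rw [Units.val_one, Matrix.toLin'_one]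
    have := LinearEquiv.congr_fun h
    exact LinearMap.ext fun b => this b
  refine ⟨g.1, (g⁻¹).1, by rw [← Units.val_mul, mul_inv_cancel, Units.val_one],
    by rw [← Units.val_mul, inv_mul_cancel, Units.val_one], by rw [← Units.val_pow_eq_pow_val, hgq, Units.val_one], ?_⟩
  intro a ha
  have h2 : finrank F (Rg x) = d := by
    apply le_antisymm
    · have := Submodule.finrank_le (Rg x)
      rwa [Module.finrank_fin_fun] at this
    · exact Nat.le_of_dvd (Rg_pos hx1) (hd.symm ▸ dvd_Rg hxq hq :)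
  have h3 : Rg x = ⊤ := by
    apply Submodule.eq_top_of_finrank_eq
    rw [h2, Module.finrank_fin_fun]
  refine disj hxq hq (x := x) (v := a) (by rw [h3]; exact mem_top) (mem_Cg.2 ?_)
  rw [hxa]
  exact ha

/-- **the element of a hyperbolic block** -/
theorem exists_block (D : Hyp H m) (hq : (q : F) ≠ 0) {d : ℕ} (hd : d = orderOf ((Nat.card F : ℕ) : ZMod q))
    (e : Fin d → Fin m) (he : Function.Injective e) :
    ∃ x : V ≃ₗ[F] V, Isom H x ∧ x ^ q = 1 ∧ (∀ i, D.u (e i) ∈ Rg x) ∧
      (∀ v, (∀ i, H.h v (D.u (e i)) = 0) → (∀ i, H.h v (D.w (e i)) = 0) → x v = v) ∧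
      ∃ E : Submodule F V, Nd H E ∧ finrank F E ≤ 2 * d ∧ Rg x ≤ E ∧
        (∀ v ∈ E, ∀ k, k ∉ Set.range e → H.h v (D.u k) = 0 ∧ H.h v (D.w k) = 0) := by
  classical
  obtain ⟨A, B, hAB, hBA, hAq, hfix⟩ := exists_A (F := F) (q := q) hq hd
  let σ : F →+* F := H.σ
  have hσσ : ∀ M : Matrix (Fin d) (Fin d) F, (M.map σ).map σ = M := by
    intro M
    ext i k
    exact H.σσ _
  have hBq : B ^ q = 1 := by
    have h1 : (A * B) ^ q = A ^ q * B ^ q := by
      have hc : Commute A B := by rw [Commute, SemiconjBy, hAB, hBA]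
      exact hc.mul_pow q
    rw [hAB, one_pow, hAq, one_mul] at h1
    exact h1.symm
  let A' : Matrix (Fin d) (Fin d) F := (B.map σ).transpose
  let B' : Matrix (Fin d) (Fin d) F := (A.map σ).transpose
  have hA'B' : A' * B' = 1 := by
    change (B.map σ).transpose * (A.map σ).transpose = 1
    rw [← Matrix.transpose_mul, ← Matrix.map_mul, hAB, Matrix.map_one σ (map_zero σ) (map_one σ),
      Matrix.transpose_one]
  have hB'A' : B' * A' = 1 := by
    change (A.map σ).transpose * (B.map σ).transpose = 1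
    rw [← Matrix.transpose_mul, ← Matrix.map_mul, hBA, Matrix.map_one σ (map_zero σ) (map_one σ),
      Matrix.transpose_one]
  have hA'q : A' ^ q = 1 := by
    change (B.map σ).transpose ^ q = 1
    have h1 : (B.map σ) ^ q = (B ^ q).map σ := ((RingHom.mapMatrix σ).map_pow B q).symm
    rw [← Matrix.transpose_pow, h1, hBq, Matrix.map_one σ (map_zero σ) (map_one σ), Matrix.transpose_one]
  let x0 : (Fin d → F) ≃ₗ[F] (Fin d → F) := LinearEquiv.ofLinearMap (Matrix.toLin' A) (Matrix.toLin' B)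
    (by rw [← Matrix.toLin'_mul, hAB, Matrix.toLin'_one]) (by rw [← Matrix.toLin'_mul, hBA, Matrix.toLin'_one])
  let y0 : (Fin d → F) ≃ₗ[F] (Fin d → F) := LinearEquiv.ofLinearMap (Matrix.toLin' A') (Matrix.toLin' B')
    (by rw [← Matrix.toLin'_mul, hA'B', Matrix.toLin'_one]) (by rw [← Matrix.toLin'_mul, hB'A', Matrix.toLin'_one])
  let f : ((Fin d → F) × (Fin d → F)) ≃ₗ[F] ((Fin d → F) × (Fin d → F)) := LinearEquiv.prodCongr x0 y0
  have hf : ∀ a b, f (a, b) = (A.mulVec a, A'.mulVec b) := fun a b => rfl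
  have hfn : ∀ (n : ℕ) a b, (f ^ n) (a, b) = ((A ^ n).mulVec a, (A' ^ n).mulVec b) := by
    intro n
    induction n with
    | zero => intro a b; rw [pow_zero, pow_zero, pow_zero, Matrix.one_mulVec, Matrix.one_mulVec]; rfl
    | succ n ih =>
      intro a b
      rw [pow_succ, LinearEquiv.mul_apply, hf, ih, Matrix.mulVec_mulVec, Matrix.mulVec_mulVec, pow_succ, pow_succ]
  have hfq : f ^ q = 1 := by
    refine LinearEquiv.ext fun z => ?_
    obtain ⟨a, b⟩ := z
    rw [hfn, hAq, hA'q, Matrix.one_mulVec, Matrix.one_mulVec]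
    rfl
  let j : ((Fin d → F) × (Fin d → F)) →ₗ[F] V :=
    LinearMap.coprod (Fintype.linearCombination F (fun i => D.u (e i))) (Fintype.linearCombination F (fun i => D.w (e i)))
  have hj : ∀ a b, j (a, b) = ∑ i, a i • D.u (e i) + ∑ i, b i • D.w (e i) := by
    intro a b
    rw [LinearMap.coprod_apply, Fintype.linearCombination_apply, Fintype.linearCombination_apply]
  have hju : ∀ a b i, H.h (j (a, b)) (D.u (e i)) = H.ε * b i := by
    intro a b i
    rw [hj, H.add_left, sum_left, sum_left, Finset.sum_eq_zero, zero_add, Finset.sum_eq_single i]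
    · rw [H.smul_left, D.wu, if_pos rfl, mul_comm]
    · intro k _ hk
      rw [H.smul_left, D.wu, if_neg fun h => hk (he h), mul_zero]
    · intro h; exact absurd (Finset.mem_univ i) h
    · intro k _
      rw [H.smul_left, D.uu, mul_zero]
  have hjw : ∀ a b i, H.h (j (a, b)) (D.w (e i)) = a i := by
    intro a b i
    rw [hj, H.add_left, sum_left, sum_left, Finset.sum_eq_single i, Finset.sum_eq_zero, add_zero]
    · rw [H.smul_left, D.uw, if_pos rfl, mul_one]
    · intro k _
      rw [H.smul_left, D.ww, mul_zero]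
    · intro k _ hk
      rw [H.smul_left, D.uw, if_neg fun h => hk (he h), mul_zero]
    · intro h; exact absurd (Finset.mem_univ i) h
  have hjj : ∀ a b a' b', H.h (j (a, b)) (j (a', b')) = a ⬝ᵥ (σ ∘ b') + H.ε * (b ⬝ᵥ (σ ∘ a')) := by
    intro a b a' b'
    rw [hj a' b', H.add_right, sum_right, sum_right, add_comm, dotProduct, dotProduct, Finset.mul_sum]
    congr 1
    · refine Finset.sum_congr rfl fun i _ => ?_
      rw [H.smul_right, hjw, mul_comm]
      rfl
    · refine Finset.sum_congr rfl fun i _ => ?_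
      rw [H.smul_right, hju]
      change H.σ (a' i) * (H.ε * b i) = H.ε * (b i * H.σ (a' i))
      ring
  have hnd : ∀ z, (∀ z', H.h (j z) (j z') = 0) → z = 0 := by
    rintro ⟨a, b⟩ h
    have h1 : a = 0 := by
      funext i
      have h2 := h (0, Pi.single i 1)
      rw [hjj] at h2
      have h3 : (σ ∘ (0 : Fin d → F)) = 0 := by funext k; exact map_zero σ
      have h4 : (σ ∘ (Pi.single i 1 : Fin d → F)) = Pi.single i 1 := by
        funext k
        by_cases hk : k = i
        · subst hk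
          rw [Function.comp_apply, Pi.single_eq_same, map_one]
        · rw [Function.comp_apply, Pi.single_eq_of_ne hk, map_zero]
      rw [h3, h4, dotProduct_zero, mul_zero, add_zero, dotProduct_single, mul_one] at h2
      exact h2
    have h5 : b = 0 := by
      funext i
      have h2 := h (Pi.single i 1, 0)
      rw [hjj] at h2
      have h3 : (σ ∘ (0 : Fin d → F)) = 0 := by funext k; exact map_zero σ
      have h4 : (σ ∘ (Pi.single i 1 : Fin d → F)) = Pi.single i 1 := by
        funext k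
        by_cases hk : k = i
        · subst hk
          rw [Function.comp_apply, Pi.single_eq_same, map_one]
        · rw [Function.comp_apply, Pi.single_eq_of_ne hk, map_zero]
      rw [h3, h4, dotProduct_zero, zero_add, dotProduct_single, mul_one] at h2
      exact (mul_eq_zero.1 h2).resolve_left H.ε_ne
    rw [h1, h5]
    rfl
  have hff : ∀ z z', H.h (j (f z)) (j (f z')) = H.h (j z) (j z') := by
    rintro ⟨a, b⟩ ⟨a', b'⟩
    rw [hf, hf, hjj, hjj]
    have h1 : ∀ (M : Matrix (Fin d) (Fin d) F) (c : Fin d → F), σ ∘ (M.mulVec c) = (M.map σ).mulVec (σ ∘ c) := by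
      intro M c
      funext i
      exact RingHom.map_mulVec σ M c i
    rw [h1, h1]
    congr 1
    · have h2 : A'.map σ = B.transpose := by
        change ((B.map σ).transpose).map σ = B.transpose
        rw [← Matrix.transpose_map, hσσ]
      rw [h2, Matrix.dotProduct_mulVec, Matrix.vecMul_transpose, Matrix.mulVec_mulVec, hBA, Matrix.one_mulVec]
    · have h3 : (A'.mulVec b) ⬝ᵥ ((A.map σ).mulVec (σ ∘ a')) = b ⬝ᵥ (σ ∘ a') := by
        rw [Matrix.dotProduct_mulVec, ← Matrix.mulVec_transpose, Matrix.mulVec_mulVec]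
        change ((B' * A').mulVec b) ⬝ᵥ (σ ∘ a') = _
        rw [hB'A', Matrix.one_mulVec]
      rw [h3]
  obtain ⟨x, hI, hxq, hxj, hx0, hxd⟩ := exists_ext (H := H) j hnd f hff hfq
  refine ⟨x, hI, hxq, ?_, ?_, LinearMap.range j, ?_, ?_, ?_, ?_⟩
  · -- `u (e i) ∈ [V, x]`
    intro i
    have h1 : Function.Injective (Matrix.toLin' (A - 1)) := by
      rw [injective_iff_map_eq_zero]
      intro a ha
      apply hfix
      rw [Matrix.toLin'_apply, Matrix.sub_mulVec, Matrix.one_mulVec, sub_eq_zero] at ha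
      exact ha
    obtain ⟨a, ha⟩ := (LinearMap.injective_iff_surjective.1 h1) (Pi.single i 1)
    rw [Matrix.toLin'_apply, Matrix.sub_mulVec, Matrix.one_mulVec] at ha
    have h2 : x (j (a, 0)) - j (a, 0) = D.u (e i) := by
      rw [hxj, hf, Matrix.mulVec_zero, ← map_sub, Prod.mk_sub_mk, ha, sub_zero, hj, Finset.sum_eq_single i]
      · simp
      · intro k _ hk
        rw [Pi.single_eq_of_ne hk, zero_smul]
      · intro h; exact absurd (Finset.mem_univ i) h
    rw [← h2]
    exact sub_mem_Rg x _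
  · intro v h1 h2
    refine hx0 v ?_
    rintro ⟨a, b⟩
    rw [hj, H.add_right, sum_right, sum_right]
    rw [Finset.sum_eq_zero, Finset.sum_eq_zero, add_zero]
    · intro k _; rw [H.smul_right, h2, mul_zero]
    · intro k _; rw [H.smul_right, h1, mul_zero]
  · rintro _ ⟨z, rfl⟩ h
    rw [hnd z fun z' => h _ ⟨z', rfl⟩, map_zero]
  · have h1 := LinearMap.finrank_range_le j
    rw [Module.finrank_prod, Module.finrank_fin_fun] at h1
    omega
  · rintro _ ⟨v, rfl⟩
    change x v - v ∈ _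
    obtain ⟨z, _, h2⟩ := hxd v
    rw [h2, add_sub_cancel_left]
    exact ⟨_, rfl⟩
  · rintro _ ⟨⟨a, b⟩, rfl⟩ k hk
    rw [hj, H.add_left, H.add_left, sum_left, sum_left, sum_left, sum_left]
    refine ⟨?_, ?_⟩
    · rw [Finset.sum_eq_zero, Finset.sum_eq_zero, add_zero]
      · intro i _
        rw [H.smul_left, D.wu, if_neg fun h => hk ⟨i, h⟩, mul_zero]
      · intro i _
        rw [H.smul_left, D.uu, mul_zero]
    · rw [Finset.sum_eq_zero, Finset.sum_eq_zero, add_zero]
      · intro i _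
        rw [H.smul_left, D.ww, mul_zero]
      · intro i _
        rw [H.smul_left, D.uw, if_neg fun h => hk ⟨i, h⟩, mul_zero]

end Fin

/-- **CaseS** -/
theorem caseS : CaseS.{u, v} := by
  intro F _ _ V _ _ _ H q m _ D hq hm1 hor hN hlt ⟨x, hI, hx, hne⟩
  refine ⟨x, x, hI, hI, hx, hx, rfl, fun h => ?_⟩
  obtain ⟨W, hW, hst, hdim⟩ := top_of_PF h
  have hS : Sb x W := Sb.of_map (hst x (Set.mem_insert _ _))
  have h1 := dvd_inf hx hq hS
  have h2 : finrank F (W ⊓ Rg x : Submodule F V) ≤ m := by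
    rw [← hdim]
    exact Submodule.finrank_mono inf_le_left
  have h3 : finrank F (W ⊓ Rg x : Submodule F V) = 0 := by
    rcases Nat.eq_zero_or_pos (finrank F (W ⊓ Rg x : Submodule F V)) with h | h
    · exact h
    · have := Nat.le_of_dvd h h1
      omega
  have h4 : W ⊓ Rg x = ⊥ := Submodule.finrank_eq_zero.1 h3
  obtain ⟨h5, h6⟩ := stuck hx hq hI hS h4
  have h7 : finrank F W + finrank F (Rg x) ≤ finrank F (perp H W) := by
    have h8 := Submodule.finrank_sup_add_finrank_inf_eq W (Rg x)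
    rw [h4, finrank_bot] at h8
    have h9 : W ⊔ Rg x ≤ perp H W := sup_le hW.le_perp h6
    have h10 := Submodule.finrank_mono h9
    omega
  have h8 := finrank_perp_le D.nd W
  have h9 := dvd_Rg hx hq
  have h10 := Nat.le_of_dvd (Rg_pos hne) h9
  omega

/-- **CaseH** -/
theorem caseH (hZ : ChainZ.{u, v}) (hD : ChainD.{u, v}) : CaseH.{u, v} := by
  intro F _ _ V _ _ _ H q m _ D h2 hq hcase
  classical
  have hd0 : 0 < orderOf ((Nat.card F : ℕ) : ZMod q) := ord_pos hq
  -- a stable maximal t.i. subspace meets `[V, x]`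
  have hmeet : ∀ (e : Fin (orderOf ((Nat.card F : ℕ) : ZMod q)) → Fin m) (x : V ≃ₗ[F] V) (W : Submodule F V),
      Isom H x → x ^ q = 1 → (∀ i, D.u (e i) ∈ Rg x) → TI H W → Sb x W → finrank F W = m → W ⊓ Rg x ≠ ⊥ := by
    intro e x W hI hx hu hW hS hdim h0
    obtain ⟨h5, h6⟩ := stuck hx hq hI hS h0
    have h7 := h6 (hu ⟨0, hd0⟩)
    have h8 : D.u (e ⟨0, hd0⟩) ∈ W := by
      by_contra h9
      exact false_of_max D.witt hW hdim h7 (D.uu _ _) h9
    have h9 : D.u (e ⟨0, hd0⟩) ∈ W ⊓ Rg x := ⟨h8, hu _⟩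
    rw [h0, mem_bot] at h9
    exact D.u_ne _ h9
  by_cases hpow : ∃ a : ℕ, orderOf ((Nat.card F : ℕ) : ZMod q) = 2 ^ a
  · -- two blocks
    have h2m : 2 * orderOf ((Nat.card F : ℕ) : ZMod q) ≤ m := by
      rcases hcase with h | h
      · exact h
      · exact absurd hpow h.1
    obtain ⟨a, ha⟩ := hpow
    let e1 : Fin (orderOf ((Nat.card F : ℕ) : ZMod q)) → Fin m := fun i => ⟨i, by omega⟩
    let e2 : Fin (orderOf ((Nat.card F : ℕ) : ZMod q)) → Fin m :=
      fun i => ⟨orderOf ((Nat.card F : ℕ) : ZMod q) + i, by omega⟩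
    have he1 : Function.Injective e1 := by
      intro i k h
      have := congrArg (fun z : Fin m => (z : ℕ)) h
      exact Fin.ext this
    have he2 : Function.Injective e2 := by
      intro i k h
      have h1 := congrArg (fun z : Fin m => (z : ℕ)) h
      have h2 : orderOf ((Nat.card F : ℕ) : ZMod q) + (i : ℕ) = orderOf ((Nat.card F : ℕ) : ZMod q) + (k : ℕ) := h1
      exact Fin.ext (by omega)
    have h12 : ∀ i, e2 i ∉ Set.range e1 := by
      rintro i ⟨k, hk⟩
      have h1 := congrArg (fun z : Fin m => (z : ℕ)) hk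
      have h2 : (k : ℕ) = orderOf ((Nat.card F : ℕ) : ZMod q) + (i : ℕ) := h1
      omega
    obtain ⟨x, hI, hx, hu, hfx, E, hE, hdE, hRE, hEo⟩ := exists_block D hq rfl e1 he1
    obtain ⟨x', hI', hx', hu', hfx', E', hE', hdE', hRE', hEo'⟩ := exists_block D hq rfl e2 he2
    have hRC : Rg x ≤ Cg x' := by
      intro v hv
      rw [mem_Cg]
      exact hfx' v (fun i => (hEo v (hRE hv) _ (h12 i)).1) (fun i => (hEo v (hRE hv) _ (h12 i)).2)
    -- `x` and `x'` commute
    have h21 : ∀ i, e1 i ∉ Set.range e2 := by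
      rintro i ⟨k, hk⟩
      have h1 := congrArg (fun z : Fin m => (z : ℕ)) hk
      have h2 : orderOf ((Nat.card F : ℕ) : ZMod q) + (k : ℕ) = (i : ℕ) := h1
      omega
    have hRC' : Rg x' ≤ Cg x := by
      intro v hv
      rw [mem_Cg]
      exact hfx v (fun i => (hEo' v (hRE' hv) _ (h21 i)).1) (fun i => (hEo' v (hRE' hv) _ (h21 i)).2)
    have hcomm : x * x' = x' * x := by
      refine LinearEquiv.ext fun v => ?_
      rw [LinearEquiv.mul_apply, LinearEquiv.mul_apply]
      have h1 : x' v = (x' v - v) + v := by abel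
      have h2 : x v = (x v - v) + v := by abel
      rw [h1, map_add, mem_Cg.1 (hRC' (sub_mem_Rg x' v)), h2, map_add, mem_Cg.1 (hRC (sub_mem_Rg x v))]
      abel
    refine ⟨x, x', hI, hI', hx, hx', hcomm, fun hPF => ?_⟩
    obtain ⟨W, hW, hst, hdim, hno⟩ := hD F V q (TI H) {x, x'} m a hq TI.bot hPF
    have hmx : x ∈ ({x, x'} : Set (V ≃ₗ[F] V)) := Set.mem_insert _ _
    have hmx' : x' ∈ ({x, x'} : Set (V ≃ₗ[F] V)) := Set.mem_insert_of_mem _ rfl
    have hS : Sb x W := Sb.of_map (hst x hmx)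
    have hS' : Sb x' W := Sb.of_map (hst x' hmx')
    have hle : ∀ (y : V ≃ₗ[F] V) (G : Submodule F V), Nd H G →
        finrank F G ≤ 2 * orderOf ((Nat.card F : ℕ) : ZMod q) → Rg y ≤ G →
        finrank F (W ⊓ Rg y : Submodule F V) ≤ orderOf ((Nat.card F : ℕ) : ZMod q) := by
      intro y G hG hdG hyG
      have h1 := finrank_perp_le D.nd (W ⊓ Rg y)
      have h2 : (W ⊓ Rg y) ⊔ perp H G ≤ perp H (W ⊓ Rg y) := by
        refine sup_le (hW.mono inf_le_left).le_perp ?_
        intro v hv w hw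
        exact hv w (hyG hw.2)
      have h3 := Submodule.finrank_mono h2
      have h4 := Submodule.finrank_sup_add_finrank_inf_eq (W ⊓ Rg y) (perp H G)
      have h5 : (W ⊓ Rg y) ⊓ perp H G = ⊥ := by
        rw [eq_bot_iff]
        rintro v ⟨hv, hv'⟩
        exact hG v (hyG hv.2) hv'
      rw [h5, finrank_bot] at h4
      have h6 := Submodule.finrank_add_eq_of_isCompl (isCompl_perp hG)
      omega
    have heq : ∀ (y : V ≃ₗ[F] V), y ^ q = 1 → Sb y W → W ⊓ Rg y ≠ ⊥ →
        finrank F (W ⊓ Rg y : Submodule F V) ≤ orderOf ((Nat.card F : ℕ) : ZMod q) →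
        finrank F (W ⊓ Rg y : Submodule F V) = 2 ^ a := by
      intro y hy hSy hne hley
      have h1 : 0 < finrank F (W ⊓ Rg y : Submodule F V) := by
        rw [Nat.pos_iff_ne_zero]
        intro h
        exact hne (Submodule.finrank_eq_zero.1 h)
      have h3 := Nat.le_of_dvd h1 (dvd_inf hy hq hSy)
      omega
    exact hno x hmx x' hmx' hx hx' hRC
      (heq x hx hS (hmeet e1 x W hI hx hu hW hS hdim) (hle x E hE hdE hRE))
      (heq x' hx' hS' (hmeet e2 x' W hI' hx' hu' hW hS' hdim) (hle x' E' hE' hdE' hRE'))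
  · -- one block
    have hdm : orderOf ((Nat.card F : ℕ) : ZMod q) ≤ m := by
      rcases hcase with h | h
      · omega
      · exact h.2
    let e1 : Fin (orderOf ((Nat.card F : ℕ) : ZMod q)) → Fin m := fun i => ⟨i, by omega⟩
    have he1 : Function.Injective e1 := by
      intro i k h
      have := congrArg (fun z : Fin m => (z : ℕ)) h
      exact Fin.ext this
    obtain ⟨x, hI, hx, hu, hfx, E, hE, hdE, hRE, hEo⟩ := exists_block D hq rfl e1 he1
    refine ⟨x, x, hI, hI, hx, hx, rfl, fun hPF => ?_⟩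
    obtain ⟨W, hW, hst, hdim, hno⟩ := hZ F V q (TI H) {x, x} m hq hpow TI.bot hPF
    have hmx : x ∈ ({x, x} : Set (V ≃ₗ[F] V)) := Set.mem_insert _ _
    exact hmeet e1 x W hI hx hu hW (Sb.of_map (hst x hmx)) hdim (hno x hmx hx)

/-- **CoreB** from the pieces -/
theorem coreB_of (hZ : ChainZ.{u, v}) (hD : ChainD.{u, v}) (hE : CaseE.{u, v}) : CoreB.{u, v} := by
  intro F _ _ V _ _ _ H q m hqp hq2 D hσ h2 hq hm hN hx
  rcases lt_or_ge m (orderOf ((Nat.card F : ℕ) : ZMod q)) with h | h
  · exact caseS F V H q m D hq (by omega) (Or.inl hm) hN h hx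
  · rcases Nat.even_or_odd (orderOf ((Nat.card F : ℕ) : ZMod q)) with he | ho
    · exact hE F V H q m D hσ h2 hq he h
    · refine caseH hZ hD F V H q m D h2 hq ?_
      by_cases hp : ∃ a : ℕ, orderOf ((Nat.card F : ℕ) : ZMod q) = 2 ^ a
      · left
        obtain ⟨a, ha⟩ := hp
        rcases Nat.eq_zero_or_pos a with rfl | hpos
        · rw [ha, pow_zero]
          omega
        · exfalso
          rw [ha] at ho
          exact (Nat.not_even_iff_odd.2 ho) (Nat.even_pow.2 ⟨even_two, by omega⟩)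
      · exact Or.inr ⟨hp, h⟩

/-- **CoreU** from the pieces -/
theorem coreU_of (hZ : ChainZ.{u, v}) (hD : ChainD.{u, v}) : CoreU.{u, v} := by
  intro F _ _ V _ _ _ H q m hqp hq2 D h2 hq hm hN hx hc
  rcases lt_or_ge m (orderOf ((Nat.card F : ℕ) : ZMod q)) with h | h
  · exact caseS F V H q m D hq hm (Or.inr hN) (by omega) h hx
  · refine caseH hZ hD F V H q m D h2 hq ?_
    rcases hc with hc | hc | hc
    · exact Or.inr ⟨hc, h⟩
    · exact Or.inl hc
    · omega

end Cfsg.Agent.H21.PG
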