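import Cfsg.Agent.H21.PG.Base
import Cfsg.Agent.H21.PG.Chain

/-!
# The uniform core of block G of S4884 (polar types): types and targets (helper21)

`Hyp H m` : `m` hyperbolic pairs with anisotropic complement (the Witt index is `m`).
`QE H q m` : two commuting isometries `x₁`, `x₂` with `x_i ^ q = 1` and no primary digit flag of t.i. subspaces.
`qelt_of` : from elements of `Ĝ` acting as `x₁`, `x₂` to `QElt`.

Targets (`d = orderOf (|F| : ZMod q)`):
* `KB`     : an irreducible self dual module with invariant form (helper435);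
* `CaseE`  : `σ = 1`, `d` even, `d ≤ m` (helper435);
* `CaseU`  : `q ∣ r + 1` in the unitary case (helper886);
* `ChainT` : the digits used by an element along a primary flag (helper298);
* `CaseH`  : `2 d ≤ m` or `d` not a power of two (helper21);
* `CaseS`  : `m < d` (helper21).
-/

set_option autoImplicit false
set_option linter.unusedSectionVars false

namespace Cfsg.Agent.H21.PG

open Cfsg.Agent.TitsThree.Siegel Module Submodule Cfsg.Agent.H439.CC

universe u v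

section

variable {F : Type u} [Field F] {V : Type v} [AddCommGroup V] [Module F V]

/-- `m` hyperbolic pairs with anisotropic complement -/
structure Hyp (H : HForm F V) (m : ℕ) where
  u : Fin m → V
  w : Fin m → V
  uu : ∀ i j, H.h (u i) (u j) = 0
  ww : ∀ i j, H.h (w i) (w j) = 0
  uw : ∀ i j, H.h (u i) (w j) = if i = j then 1 else 0
  ani : ∀ v, (∀ i, H.h (u i) v = 0) → (∀ i, H.h (w i) v = 0) → H.h v v = 0 → v = 0

/-- two commuting isometries of order `q` (or `1`) without primary digit flag -/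
def QE (H : HForm F V) (q m : ℕ) : Prop :=
  ∃ x₁ x₂ : V ≃ₗ[F] V, Isom H x₁ ∧ Isom H x₂ ∧ x₁ ^ q = 1 ∧ x₂ ^ q = 1 ∧ x₁ * x₂ = x₂ * x₁ ∧
    ¬ PF (TI H) {x₁, x₂} (dig m) ⊥

theorem PF.mono {Adm : Submodule F V → Prop} {X Y : Set (V ≃ₗ[F] V)} (hXY : X ⊆ Y) :
    ∀ (ds : List ℕ) (A : Submodule F V), PF Adm Y ds A → PF Adm X ds A
  | [], _, _ => trivial
  | _ :: ds, _, ⟨B, h1, h2, h3, h4, h5, h6⟩ =>
    ⟨B, h1, h2, fun x hx => h3 x (hXY hx), h4, fun x hx => h5 x (hXY hx), PF.mono hXY ds B h6⟩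

/-- from elements of `Ĝ` -/
theorem qelt_of {Adm : Submodule F V → Prop} {Gh : Type*} [Group Gh] (act : Gh →* (V ≃ₗ[F] V)) {q N : ℕ}
    [hq : Fact q.Prime] (g₁ g₂ : Gh) (h1 : g₁ ^ q = 1) (h2 : g₂ ^ q = 1) (hc : g₁ * g₂ = g₂ * g₁)
    (h : ¬ PF Adm {act g₁, act g₂} (dig N) ⊥) : QElt Adm act q N := by
  have hcomm : ∀ x ∈ ({g₁, g₂} : Set Gh), ∀ y ∈ ({g₁, g₂} : Set Gh), x * y = y * x := by
    intro x hx y hy
    rcases hx with rfl | rfl <;> rcases hy with rfl | rfl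
    · rfl
    · exact hc
    · exact hc.symm
    · rfl
  refine ⟨Subgroup.closure {g₁, g₂}, ?_, ?_, fun h' => h (PF.mono ?_ _ _ h')⟩
  · intro x
    have h3 : ∀ y ∈ Subgroup.closure ({g₁, g₂} : Set Gh), y ^ q = 1 := by
      intro y hy
      have hcm : IsMulCommutative (Subgroup.closure ({g₁, g₂} : Set Gh)) :=
        Subgroup.isMulCommutative_closure hcomm
      induction hy using Subgroup.closure_induction with
      | mem x hx =>
        rcases hx with rfl | rfl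
        · exact h1
        · exact h2
      | one => exact one_pow q
      | mul x y hx hy ihx ihy =>
        have h4 : Commute x y := by
          have := hcm.is_comm.comm ⟨x, hx⟩ ⟨y, hy⟩
          exact congrArg Subtype.val this
        rw [h4.mul_pow, ihx, ihy, one_mul]
      | inv x hx ih => rw [inv_pow, ih, inv_one]
    refine ⟨1, Subtype.ext ?_⟩
    rw [pow_one]
    exact h3 x x.2
  · intro x hx y hy
    have hcm : IsMulCommutative (Subgroup.closure ({g₁, g₂} : Set Gh)) :=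
      Subgroup.isMulCommutative_closure hcomm
    exact congrArg Subtype.val (hcm.is_comm.comm ⟨x, hx⟩ ⟨y, hy⟩)
  · rintro _ (rfl | rfl)
    · exact ⟨g₁, Subgroup.subset_closure (Set.mem_insert _ _), rfl⟩
    · exact ⟨g₂, Subgroup.subset_closure (Set.mem_insert_of_mem _ rfl), rfl⟩

end

/-! ### The targets -/

/-- **(KB)** (helper435) a fixed point free isometry of order `q` of a nondegenerate `ε`-symmetric form on `F ^ d` -/
def KB : Prop :=
  ∀ (F : Type u) [Field F] [Finite F] (q : ℕ) [Fact q.Prime] (ε : F), (2 : F) ≠ 0 → (q : F) ≠ 0 → (ε = 1 ∨ ε = -1) →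
    ∀ d : ℕ, d = orderOf ((Nat.card F : ℕ) : ZMod q) → Even d →
    ∃ (B : (Fin d → F) →ₗ[F] (Fin d → F) →ₗ[F] F) (A : (Fin d → F) ≃ₗ[F] (Fin d → F)),
      (∀ a b, B b a = ε * B a b) ∧ (∀ a, (∀ b, B a b = 0) → a = 0) ∧ (∀ a b, B (A a) (A b) = B a b) ∧
      A ^ q = 1 ∧ (∀ a, A a = a → a = 0)

/-- **(CaseE)** (helper435) `σ = 1`, `d` even, `d ≤ m` -/
def CaseE : Prop :=
  ∀ (F : Type u) [Field F] [Finite F] (V : Type v) [AddCommGroup V] [Module F V] [FiniteDimensional F V]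
    (H : HForm F V) (q m : ℕ) [Fact q.Prime], Hyp H m → (∀ a, H.σ a = a) → (2 : F) ≠ 0 → (q : F) ≠ 0 →
    Even (orderOf ((Nat.card F : ℕ) : ZMod q)) → orderOf ((Nat.card F : ℕ) : ZMod q) ≤ m → QE H q m

/-- **(CaseU)** (helper886) `z` of order `q` and norm 1: one element of determinant 1 suffices -/
def CaseU : Prop :=
  ∀ (F : Type u) [Field F] [Finite F] (V : Type v) [AddCommGroup V] [Module F V] [FiniteDimensional F V]
    (H : HForm F V) (q m : ℕ) [Fact q.Prime], Hyp H m → q ≠ 2 → 1 ≤ m → (2 : F) ≠ 0 → (q : F) ≠ 0 →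
    ∀ z : F, z ^ q = 1 → z ≠ 1 → H.σ z * z = 1 →
    ∃ x : V ≃ₗ[F] V, Isom H x ∧ x ^ q = 1 ∧ LinearMap.det (x : V →ₗ[F] V) = 1 ∧ ¬ PF (TI H) {x} (dig m) ⊥

/-- **(ChainT)** (helper298) the relative dimensions used by `x` along a primary flag -/
def ChainT : Prop :=
  ∀ (F : Type u) [Field F] [Finite F] (V : Type v) [AddCommGroup V] [Module F V] [FiniteDimensional F V]
    (q : ℕ) [Fact q.Prime] (Adm : Submodule F V → Prop) (X : Set (V ≃ₗ[F] V)), (q : F) ≠ 0 →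
    ∀ (ds : List ℕ) (A : Submodule F V), PF Adm X ds A → (∀ k ∈ ds, 0 < k) → ds.Nodup → Adm A →
    (∀ x ∈ X, A.map (x : V →ₗ[F] V) = A) →
    ∃ W : Submodule F V, A ≤ W ∧ Adm W ∧ (∀ x ∈ X, W.map (x : V →ₗ[F] V) = W) ∧
      finrank F W = finrank F A + ds.sum ∧
      ∃ T : (V ≃ₗ[F] V) → Finset ℕ, (∀ x ∈ X, x ^ q = 1 → (∀ k ∈ T x, k ∈ ds ∧
          orderOf ((Nat.card F : ℕ) : ZMod q) ∣ k) ∧
          finrank F (W ⊓ Rg x : Submodule F V) = finrank F (A ⊓ Rg x : Submodule F V) + ∑ k ∈ T x, k) ∧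
        (∀ x ∈ X, ∀ y ∈ X, x ^ q = 1 → y ^ q = 1 → Rg x ≤ Cg y → Disjoint (T x) (T y))

/-- **(ChainZ)** (helper298) no relative dimension is divisible by `d` -/
def ChainZ : Prop :=
  ∀ (F : Type u) [Field F] [Finite F] (V : Type v) [AddCommGroup V] [Module F V] [FiniteDimensional F V]
    (q : ℕ) [Fact q.Prime] (Adm : Submodule F V → Prop) (X : Set (V ≃ₗ[F] V)) (m : ℕ), (q : F) ≠ 0 →
    (¬ ∃ a : ℕ, orderOf ((Nat.card F : ℕ) : ZMod q) = 2 ^ a) → Adm ⊥ → PF Adm X (dig m) ⊥ →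
    ∃ W : Submodule F V, Adm W ∧ (∀ x ∈ X, W.map (x : V →ₗ[F] V) = W) ∧ finrank F W = m ∧
      ∀ x ∈ X, x ^ q = 1 → W ⊓ Rg x = ⊥

/-- **(ChainD)** (helper298) two elements with the same digit -/
def ChainD : Prop :=
  ∀ (F : Type u) [Field F] [Finite F] (V : Type v) [AddCommGroup V] [Module F V] [FiniteDimensional F V]
    (q : ℕ) [Fact q.Prime] (Adm : Submodule F V → Prop) (X : Set (V ≃ₗ[F] V)) (m a : ℕ), (q : F) ≠ 0 →
    Adm ⊥ → PF Adm X (dig m) ⊥ →
    ∃ W : Submodule F V, Adm W ∧ (∀ x ∈ X, W.map (x : V →ₗ[F] V) = W) ∧ finrank F W = m ∧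
      ∀ x ∈ X, ∀ y ∈ X, x ^ q = 1 → y ^ q = 1 → Rg x ≤ Cg y →
        finrank F (W ⊓ Rg x : Submodule F V) = 2 ^ a → finrank F (W ⊓ Rg y : Submodule F V) = 2 ^ a → False

/-- **(CaseH)** (helper21) `2 d ≤ m`, or `d` not a power of two and `d ≤ m` -/
def CaseH : Prop :=
  ∀ (F : Type u) [Field F] [Finite F] (V : Type v) [AddCommGroup V] [Module F V] [FiniteDimensional F V]
    (H : HForm F V) (q m : ℕ) [Fact q.Prime], Hyp H m → (2 : F) ≠ 0 → (q : F) ≠ 0 →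
    (2 * orderOf ((Nat.card F : ℕ) : ZMod q) ≤ m ∨ ((¬ ∃ a : ℕ, orderOf ((Nat.card F : ℕ) : ZMod q) = 2 ^ a) ∧
      orderOf ((Nat.card F : ℕ) : ZMod q) ≤ m)) → QE H q m

/-- **(CaseS)** (helper21) `m < d` and there is an isometry of order `q` -/
def CaseS : Prop :=
  ∀ (F : Type u) [Field F] [Finite F] (V : Type v) [AddCommGroup V] [Module F V] [FiniteDimensional F V]
    (H : HForm F V) (q m : ℕ) [Fact q.Prime], Hyp H m → (q : F) ≠ 0 → 1 ≤ m →
    (2 ≤ m ∨ finrank F V ≤ 2 * m + 1) → finrank F V ≤ 2 * m + 2 →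
    m < orderOf ((Nat.card F : ℕ) : ZMod q) → (∃ x : V ≃ₗ[F] V, Isom H x ∧ x ^ q = 1 ∧ x ≠ 1) → QE H q m

/-- **the result for `σ = 1`** (psp, oodd, ominus, oplus) -/
def CoreB : Prop :=
  ∀ (F : Type u) [Field F] [Finite F] (V : Type v) [AddCommGroup V] [Module F V] [FiniteDimensional F V]
    (H : HForm F V) (q m : ℕ) [Fact q.Prime], q ≠ 2 → Hyp H m → (∀ a, H.σ a = a) → (2 : F) ≠ 0 → (q : F) ≠ 0 → 2 ≤ m →
    finrank F V ≤ 2 * m + 2 → (∃ x : V ≃ₗ[F] V, Isom H x ∧ x ^ q = 1 ∧ x ≠ 1) → QE H q m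

/-- **the result for the unitary groups** (`d` = order of `r ^ 2`); the excluded case is `d = 2 ^ a`, `d ≤ m < 2 d`
(bad case; if `q ∣ r + 1` use `CaseU`) -/
def CoreU : Prop :=
  ∀ (F : Type u) [Field F] [Finite F] (V : Type v) [AddCommGroup V] [Module F V] [FiniteDimensional F V]
    (H : HForm F V) (q m : ℕ) [Fact q.Prime], q ≠ 2 → Hyp H m → (2 : F) ≠ 0 → (q : F) ≠ 0 → 1 ≤ m →
    finrank F V ≤ 2 * m + 1 → (∃ x : V ≃ₗ[F] V, Isom H x ∧ x ^ q = 1 ∧ x ≠ 1) →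
    (¬ ∃ a : ℕ, orderOf ((Nat.card F : ℕ) : ZMod q) = 2 ^ a) ∨ 2 * orderOf ((Nat.card F : ℕ) : ZMod q) ≤ m ∨
      m < orderOf ((Nat.card F : ℕ) : ZMod q) → QE H q m

end Cfsg.Agent.H21.PG
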